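import Groth.Agent.Lib.FibreFlat.Fibrewise
import Groth.Agent.Lib.FibreFlat.OpenScheme
import Groth.Agent.Lib.FibreLocus.SmoothPoint
import Groth.Agent.Lib.WeakEtale.Basic
import Groth.Prelude.Def_ega3

/-! # Pointwise fibre criteria for smooth, étale and unramified morphisms. -/

set_option autoImplicit false
set_option backward.isDefEq.respectTransparency false

universe u

open CategoryTheory Limits AlgebraicGeometry

namespace GrothLib.EtLocal

variable {X Y S : Scheme.{u}}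

/-- An open of the pullback over a neighbourhood. -/
theorem nhd_fibre {W : MorphismProperty Scheme.{u}} [W.IsStableUnderBaseChange] {P Z : Scheme.{u}}
    {m : P ⟶ X} {s' : P ⟶ Z} {f : X ⟶ Y} {j : Z ⟶ Y} (h : IsPullback m s' f j) (z : P) {x : X}
    (hz : m z = x) (hx : ∃ U : X.Opens, x ∈ U ∧ W (U.ι ≫ f)) :
    ∃ V : P.Opens, z ∈ V ∧ W (V.ι ≫ s') :=
  GrothLib.LocProp.nhd_of_isPullback h z (hz.symm ▸ hx)

/-- Flat at a point, with fibre smooth near the point, is smooth near the point. -/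
theorem smooth_nhd_of_flat_of_fibre_nhd (f : X ⟶ Y) [LocallyOfFinitePresentation f] (x : X)
    (hflat : (f.stalkMap x).hom.Flat) (z : f.fiber (f x)) (hz : f.fiberι (f x) z = x)
    (hsm : ∃ V : (f.fiber (f x)).Opens, z ∈ V ∧ Smooth (V.ι ≫ f.fiberToSpecResidueField (f x))) :
    ∃ U : X.Opens, x ∈ U ∧ Smooth (U.ι ≫ f) := by
  obtain ⟨V, hzV, hV⟩ := hsm
  obtain ⟨O, hO, hOV⟩ := (f.fiberι (f x)).isEmbedding.isInducing.isOpen_iff.mp V.2
  let U : X.Opens := ⟨_, (GrothLib.FibreFlat.isOpen_flat_stalkMap f).inter hO⟩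
  have hxO : x ∈ O := by
    rw [← hz]
    exact show z ∈ f.fiberι (f x) ⁻¹' O from hOV.symm ▸ hzV
  haveI : Flat (U.ι ≫ f) := (Flat.iff_flat_stalkMap _).mpr fun u =>
    (GrothLib.LocProp.stalkMap_comp_ι_iff RingHom.Flat.respectsIso U.ι f u).mpr u.2.1
  let e : (U.ι ≫ f).fiber (f x) ⟶ f.fiber (f x) :=
    pullback.map _ _ _ _ U.ι (𝟙 _) (𝟙 _) (by simp) (by simp)
  haveI : IsOpenImmersion e := inferInstance
  have heU : ∀ w, e w ∈ V := fun w => by
    have h1 : f.fiberι (f x) (e w) = U.ι ((U.ι ≫ f).fiberι (f x) w) := by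
      rw [← Scheme.Hom.comp_apply, ← Scheme.Hom.comp_apply]
      exact congrArg (fun t : (U.ι ≫ f).fiber (f x) ⟶ X => t w) (pullback.lift_fst _ _ _)
    show e w ∈ (V : Set ↥(f.fiber (f x)))
    rw [← (show f.fiberι (f x) ⁻¹' O = (V : Set ↥(f.fiber (f x))) from hOV)]
    show f.fiberι (f x) (e w) ∈ O
    rw [h1]
    exact ((U.ι ≫ f).fiberι (f x) w).2.2
  have hsmu : Smooth ((U.ι ≫ f).fiberToSpecResidueField (f x)) := by
    have he : (U.ι ≫ f).fiberToSpecResidueField (f x) =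
        IsOpenImmersion.lift V.ι e (by rintro _ ⟨w, rfl⟩; rw [Scheme.Opens.range_ι]; exact heU w) ≫
          V.ι ≫ f.fiberToSpecResidueField (f x) := by
      rw [IsOpenImmersion.lift_fac_assoc]
      exact ((pullback.lift_snd _ _ _).trans (Category.comp_id _)).symm
    rw [he]
    haveI := hV
    haveI : IsOpenImmersion (IsOpenImmersion.lift V.ι e
        (by rintro _ ⟨w, rfl⟩; rw [Scheme.Opens.range_ι]; exact heU w)) :=
      @IsOpenImmersion.of_comp _ _ _ _ V.ι inferInstance (by rw [IsOpenImmersion.lift_fac]; infer_instance)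
    infer_instance
  obtain ⟨U', hxU', hU'⟩ := GrothLib.FibreLocus.smooth_nhd_of_smooth_fibre (U.ι ≫ f)
    (⟨x, hflat, hxO⟩ : U) hsmu
  refine ⟨U.ι ''ᵁ U', ⟨_, hxU', rfl⟩, ?_⟩
  rw [← MorphismProperty.cancel_left_of_respectsIso @Smooth (U.ι.isoImage U').hom,
    Scheme.Hom.isoImage_hom_ι_assoc]
  exact hU'

/-- The fibre map as a base change. -/
theorem fiberMapOver_eq (f : X ⟶ Y) (g : Y ⟶ S) (s : S) :
    CohIII.fiberMapOver f (f ≫ g) g rfl s = MoreMor.fiberMap f g s := by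
  apply pullback.hom_ext
  · exact (pullback.lift_fst _ _ _).trans (pullback.lift_fst _ _ _).symm
  · exact (pullback.lift_snd _ _ _).trans ((Category.comp_id _).trans (pullback.lift_snd _ _ _).symm)

/-- The fibre map is cartesian over `f`. -/
theorem isPullback_fiberMap (f : X ⟶ Y) (g : Y ⟶ S) (s : S) :
    IsPullback ((f ≫ g).fiberι s) (MoreMor.fiberMap f g s) f (g.fiberι s) := by
  refine (IsPullback.of_hasPullback f (g.fiberι s)).of_iso
    (pullbackRightPullbackFstIso g (S.fromSpecResidueField s) f) (Iso.refl _) (Iso.refl _) (Iso.refl _)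
    ?_ ?_ (by simp) (by simp)
  · rw [Iso.refl_hom, Category.comp_id]
    exact (pullbackRightPullbackFstIso_hom_fst g (S.fromSpecResidueField s) f).symm
  · rw [Iso.refl_hom, Category.comp_id]
    exact (GrothLib.FibreFlat.fiberMap_comp_eq f g s).symm

section

variable (f : X ⟶ Y) (g : Y ⟶ S) (x : X) (z : (f ≫ g).fiber (g (f x)))
  (hz : (f ≫ g).fiberι (g (f x)) z = x)

include hz

theorem unramified_nhd_fiberMap_iff [LocallyOfFiniteType f] :
    (∃ U : X.Opens, x ∈ U ∧ FormallyUnramified (U.ι ≫ f)) ↔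
      ∃ V : ((f ≫ g).fiber (g (f x))).Opens, z ∈ V ∧
        FormallyUnramified (V.ι ≫ MoreMor.fiberMap f g (g (f x))) := by
  refine ⟨nhd_fibre (W := @FormallyUnramified) (isPullback_fiberMap f g _) z hz, fun h => ?_⟩
  haveI : LocallyOfFiniteType (MoreMor.fiberMap f g (g (f x))) :=
    MorphismProperty.of_isPullback (P := @LocallyOfFiniteType) (isPullback_fiberMap f g _) inferInstance
  rw [GrothLib.LocProp.formallyUnramified_nhd_iff f x]
  exact GrothLib.FibreFlat.formallyUnramified_stalkMap_of_fibrewise f g x z hz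
    ((GrothLib.LocProp.formallyUnramified_nhd_iff _ z).mp h)

/-- Flatness at the point from the fibre. -/
theorem flat_of_fiberMap_nhd [LocallyOfFinitePresentation (f ≫ g)] [LocallyOfFiniteType g]
    (hflat : ((f ≫ g).stalkMap x).hom.Flat) {V : ((f ≫ g).fiber (g (f x))).Opens} (hzV : z ∈ V)
    (hV : Flat (V.ι ≫ MoreMor.fiberMap f g (g (f x)))) : (f.stalkMap x).hom.Flat := by
  refine ((GrothLib.FibreFlat.critere_par_fibres f g x).mp ⟨hflat, ?_⟩).2
  rw [← GrothLib.FibreFlat.flat_fiberMap_stalkMap_iff f g (g (f x)) z x hz]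
  exact (GrothLib.LocProp.stalkMap_comp_ι_iff RingHom.Flat.respectsIso V.ι _ ⟨z, hzV⟩).mp
    (Flat.stalkMap (V.ι ≫ MoreMor.fiberMap f g (g (f x))) ⟨z, hzV⟩)

theorem etale_nhd_fiberMap_iff [LocallyOfFinitePresentation (f ≫ g)] [LocallyOfFiniteType g]
    (hflat : ((f ≫ g).stalkMap x).hom.Flat) :
    (∃ U : X.Opens, x ∈ U ∧ Etale (U.ι ≫ f)) ↔
      ∃ V : ((f ≫ g).fiber (g (f x))).Opens, z ∈ V ∧
        Etale (V.ι ≫ MoreMor.fiberMap f g (g (f x))) := by
  haveI : LocallyOfFinitePresentation f :=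
    GrothLib.DiagGrp.lfp_of_comp_of_lft f g inferInstance inferInstance
  refine ⟨nhd_fibre (W := @Etale) (isPullback_fiberMap f g _) z hz, fun ⟨V, hzV, hV⟩ => ?_⟩
  haveI := hV
  refine (GrothLib.LocProp.etale_nhd_iff f x).mpr ⟨flat_of_fiberMap_nhd f g x z hz hflat hzV inferInstance, ?_⟩
  exact (GrothLib.LocProp.formallyUnramified_nhd_iff f x).mp
    ((unramified_nhd_fiberMap_iff f g x z hz).mpr ⟨V, hzV, inferInstance⟩)

theorem smooth_nhd_fiberMap_iff [LocallyOfFinitePresentation (f ≫ g)] [LocallyOfFiniteType g]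
    (hflat : ((f ≫ g).stalkMap x).hom.Flat) :
    (∃ U : X.Opens, x ∈ U ∧ Smooth (U.ι ≫ f)) ↔
      ∃ V : ((f ≫ g).fiber (g (f x))).Opens, z ∈ V ∧
        Smooth (V.ι ≫ MoreMor.fiberMap f g (g (f x))) := by
  haveI : LocallyOfFinitePresentation f :=
    GrothLib.DiagGrp.lfp_of_comp_of_lft f g inferInstance inferInstance
  refine ⟨nhd_fibre (W := @Smooth) (isPullback_fiberMap f g _) z hz, fun ⟨V, hzV, hV⟩ => ?_⟩
  haveI := hV
  have hf := flat_of_fiberMap_nhd f g x z hz hflat hzV inferInstance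
  refine smooth_nhd_of_flat_of_fibre_nhd f x hf (f.asFiber x) (f.fiberι_asFiber x) ?_
  let s := g (f x)
  let j : Spec (Y.residueField (f x)) ⟶ g.fiber s :=
    pullback.lift (Y.fromSpecResidueField (f x)) (Spec.map (g.residueFieldMap (f x))) (by simp [s])
  have hj : j ≫ g.fiberι s = Y.fromSpecResidueField (f x) := pullback.lift_fst ..
  have hcond : f.fiberι (f x) ≫ f = f.fiberToSpecResidueField (f x) ≫ j ≫ g.fiberι s := by
    rw [hj]; exact pullback.condition
  let a : f.fiber (f x) ⟶ (f ≫ g).fiber s :=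
    (isPullback_fiberMap f g s).lift (f.fiberι (f x)) (f.fiberToSpecResidueField (f x) ≫ j)
      (by rw [Category.assoc]; exact hcond)
  have ha1 : a ≫ (f ≫ g).fiberι s = f.fiberι (f x) := (isPullback_fiberMap f g s).lift_fst _ _ _
  have ha : IsPullback a (f.fiberToSpecResidueField (f x)) (MoreMor.fiberMap f g s) j := by
    refine IsPullback.of_right (h₁₂ := (f ≫ g).fiberι s) (h₂₂ := g.fiberι s) (v₁₃ := f) ?_
      ((isPullback_fiberMap f g s).lift_snd _ _ _) (isPullback_fiberMap f g s)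
    rw [ha1, hj]
    exact IsPullback.of_hasPullback f _
  have haz : a (f.asFiber x) = z := by
    apply ((f ≫ g).fiberι s).isEmbedding.injective
    rw [← Scheme.Hom.comp_apply, ha1, f.fiberι_asFiber]
    exact hz.symm
  exact nhd_fibre (W := @Smooth) ha (f.asFiber x) haz ⟨V, hzV, hV⟩

end

end GrothLib.EtLocal
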