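import Groth.Agent.Lib.Weight.FiniteIsolated
import Groth.Agent.Lib.Hensel.Sections

/-! # Finite part of a quasi-finite separated scheme over a henselian local ring; sections. -/

set_option autoImplicit false
set_option backward.isDefEq.respectTransparency false

universe u

open CategoryTheory Limits AlgebraicGeometry IsLocalRing Topology

namespace GrothLib.EtLocal

variable {R : Type u} [CommRing R]

theorem comap_closedPoint_residue [IsLocalRing R] :
    Spec.map (CommRingCat.ofHom (residue R)) (closedPoint (ResidueField R)) = closedPoint R :=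
  IsLocalRing.comap_closedPoint (residue R)

/-- Field-valued points lift through a map with trivial residue extension. -/
theorem exists_field_lift {U S : Scheme.{u}} (g : U ⟶ S) (u : U) [IsIso (g.residueFieldMap u)]
    (K : Type u) [Field K] (r : Spec (CommRingCat.of K) ⟶ S) (c : Spec (CommRingCat.of K))
    (hr : r c = g u) : ∃ u₀ : Spec (CommRingCat.of K) ⟶ U, u₀ ≫ g = r ∧ u₀ c = u := by
  obtain ⟨⟨s, ψ⟩, rfl⟩ := (S.SpecToEquivOfField K).symm.surjective r
  obtain rfl : s = g u := by
    rw [← hr]
    change s = (Spec.map ψ ≫ S.fromSpecResidueField s) c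
    rw [Scheme.Hom.comp_apply, Scheme.fromSpecResidueField_apply]
  refine ⟨Spec.map (inv (g.residueFieldMap u) ≫ ψ) ≫ U.fromSpecResidueField u, ?_, ?_⟩
  · change _ = Spec.map ψ ≫ S.fromSpecResidueField (g u)
    rw [Category.assoc, ← Scheme.Hom.SpecMap_residueFieldMap_fromSpecResidueField, ← Category.assoc,
      ← Spec.map_comp, IsIso.hom_inv_id_assoc]
  · rw [Scheme.Hom.comp_apply, Scheme.fromSpecResidueField_apply]

/-- Étale neighbourhoods of the closed point with trivial residue extension have sections. -/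
theorem exists_section_of_etaleNbhd [HenselianLocalRing R] {U : Scheme.{u}}
    (g : U ⟶ Spec (CommRingCat.of R)) (u : U) (h : Hens2.IsEtaleNbhd g u (closedPoint R)) :
    ∃ σ : Spec (CommRingCat.of R) ⟶ U, σ ≫ g = 𝟙 _ ∧ σ (closedPoint R) = u := by
  haveI := h.etale
  haveI := (ConcreteCategory.isIso_iff_bijective _).mpr h.residue_bijective
  obtain ⟨u₀, hu₀, hu₀c⟩ := exists_field_lift g u (ResidueField R)
    (Spec.map (CommRingCat.ofHom (residue R))) (closedPoint (ResidueField R))
    (comap_closedPoint_residue.trans h.base_eq.symm)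
  obtain ⟨σ, hσ, hσ₀⟩ := GrothLib.Hensel.exists_section_extending g u₀ hu₀
  refine ⟨σ, hσ, ?_⟩
  rw [← hu₀c, ← hσ₀, Scheme.Hom.comp_apply, comap_closedPoint_residue]

/-- The condition characterising the finite part. -/
def IsFinitePart [IsLocalRing R] {X : Scheme.{u}} (f : X ⟶ Spec (CommRingCat.of R)) (W : X.Opens) :
    Prop :=
  IsClosed (W : Set X) ∧ IsFinite (W.ι ≫ f) ∧ ∀ x : X, f x = closedPoint R → x ∈ W

/-- A point of a closed subscheme universally closed over a local scheme specialises over the closed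
point. -/
theorem exists_specializes_closedPoint [IsLocalRing R] {X : Scheme.{u}}
    (f : X ⟶ Spec (CommRingCat.of R)) [UniversallyClosed f] (x : X) :
    ∃ x' : X, x ⤳ x' ∧ f x' = closedPoint R := by
  have hmem : closedPoint R ∈ f '' closure {x} := by
    have hc : IsClosed (f '' closure {x}) := f.isClosedMap _ isClosed_closure
    exact (IsLocalRing.specializes_closedPoint (f x)).mem_closed hc ⟨x, subset_closure rfl, rfl⟩
  obtain ⟨x', hx', hfx⟩ := hmem
  exact ⟨x', specializes_iff_mem_closure.mpr hx', hfx⟩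

theorem exists_specializes_of_isFinite_part [IsLocalRing R] {X : Scheme.{u}}
    (f : X ⟶ Spec (CommRingCat.of R)) (W : X.Opens) [IsFinite (W.ι ≫ f)] (x : X) (hx : x ∈ W) :
    ∃ x' : X, x ⤳ x' ∧ f x' = closedPoint R := by
  obtain ⟨x', h1, h2⟩ := exists_specializes_closedPoint (W.ι ≫ f) (⟨x, hx⟩ : W)
  exact ⟨W.ι x', h1.map W.ι.continuous, h2⟩

theorem IsFinitePart.le [IsLocalRing R] {X : Scheme.{u}} {f : X ⟶ Spec (CommRingCat.of R)}
    {W W' : X.Opens} (hW : IsFinitePart f W) (hW' : ∀ x : X, f x = closedPoint R → x ∈ W') :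
    W ≤ W' := fun x hx => by
  haveI := hW.2.1
  obtain ⟨x', hxx', hx'⟩ := exists_specializes_of_isFinite_part f W x hx
  exact hxx'.mem_open W'.2 (hW' x' hx')

theorem existsUnique_isFinitePart [HenselianLocalRing R] {X : Scheme.{u}}
    (f : X ⟶ Spec (CommRingCat.of R))
    [LocallyQuasiFinite f] [LocallyOfFiniteType f] [QuasiCompact f] [IsSeparated f] :
    ∃! W : X.Opens, IsFinitePart f W := by
  obtain ⟨U, g, u, hu, V, hVc, hVfin, hV⟩ :=
    GrothLib.Weight.exists_finite_isolated_part f (closedPoint R) (by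
      haveI : Finite (f ⁻¹' {closedPoint R}) := (f.finite_preimage_singleton _).to_subtype
      haveI : Finite (f.fiber (closedPoint R)) := (f.fiberHomeo _).finite_iff.mpr ‹_›
      exact Set.toFinite _)
  obtain ⟨σ, hσ, hσu⟩ := exists_section_of_etaleNbhd g u hu
  let l : X ⟶ pullback f g := pullback.lift (𝟙 X) (f ≫ σ) (by rw [Category.assoc, hσ]; simp)
  have hl : IsPullback l f (pullback.snd f g) σ := by
    refine IsPullback.of_right (h₁₂ := pullback.fst f g) (h₂₂ := g) (v₁₃ := f) ?_
      (pullback.lift_snd _ _ _) (IsPullback.of_hasPullback f g)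
    rw [pullback.lift_fst, hσ]
    exact IsPullback.of_vert_isIso ⟨by simp⟩ |>.flip
  have hW : IsFinitePart f (l ⁻¹ᵁ V) := by
    refine ⟨hVc.1.preimage l.continuous, ?_, fun x hx => ?_⟩
    · exact MorphismProperty.of_isPullback (P := @IsFinite)
        ((isPullback_morphismRestrict l V).paste_vert hl) hVfin
    · by_contra hxV
      have hu' : pullback.snd f g (l x) = u := by
        rw [← Scheme.Hom.comp_apply, pullback.lift_snd, Scheme.Hom.comp_apply, hx, hσu]
      obtain ⟨w, hw⟩ : l x ∈ Set.range ((pullback.snd f g).fiberι u) := by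
        rw [Scheme.Hom.range_fiberι]; exact hu'
      haveI : LocallyQuasiFinite (pullback.snd f g) := inferInstance
      haveI : DiscreteTopology (pullback.snd f g ⁻¹' {u}) :=
        isDiscrete_iff_discreteTopology.mp ((pullback.snd f g).isDiscrete_preimage_singleton u)
      haveI : DiscreteTopology ((pullback.snd f g).fiber u) :=
        ((pullback.snd f g).fiberHomeo u).symm.discreteTopology
      refine hV w (by rw [hw]; exact hxV) (isOpen_discrete _)
  exact ⟨_, hW, fun W' hW' => le_antisymm (hW'.le hW.2.2) (hW.le hW'.2.2)⟩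

/-- Sections through a rational point of the closed fibre are unique for étale morphisms. -/
theorem existsUnique_section_etale [HenselianLocalRing R] {X : Scheme.{u}}
    (f : X ⟶ Spec (CommRingCat.of R)) [Etale f]
    (t : Spec (CommRingCat.of (ResidueField R)) ⟶ X)
    (ht : t ≫ f = Spec.map (CommRingCat.ofHom (residue R))) :
    ∃! s : Spec (CommRingCat.of R) ⟶ X,
      s ≫ f = 𝟙 (Spec (CommRingCat.of R)) ∧ Spec.map (CommRingCat.ofHom (residue R)) ≫ s = t := by
  obtain ⟨s, hs, hst⟩ := GrothLib.Hensel.exists_section_extending f t ht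
  refine ⟨s, ⟨hs, hst⟩, ?_⟩
  rintro s' ⟨hs', hs't⟩
  obtain ⟨_, ⟨V, hV, rfl⟩, hxV, -⟩ := X.isBasis_affineOpens.exists_subset_of_mem_open
    (Set.mem_univ (t (closedPoint (ResidueField R)))) isOpen_univ
  have hfac : ∀ (s : Spec (CommRingCat.of R) ⟶ X),
      Spec.map (CommRingCat.ofHom (residue R)) ≫ s = t → Set.range s ⊆ Set.range hV.fromSpec := by
    rintro s h _ ⟨y, rfl⟩
    rw [hV.range_fromSpec]
    refine ((IsLocalRing.specializes_closedPoint y).map s.continuous).mem_open V.2 ?_
    have : s (closedPoint R) = t (closedPoint (ResidueField R)) := by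
      rw [← h, Scheme.Hom.comp_apply]
      exact congrArg s comap_closedPoint_residue.symm
    rw [this]; exact hxV
  obtain ⟨φ, hφ⟩ := Spec.map_surjective (hV.fromSpec ≫ f)
  obtain ⟨a, ha⟩ := Spec.map_surjective (IsOpenImmersion.lift hV.fromSpec s (hfac s hst))
  obtain ⟨b, hb⟩ := Spec.map_surjective (IsOpenImmersion.lift hV.fromSpec s' (hfac s' hs't))
  have has : Spec.map a ≫ hV.fromSpec = s := by rw [ha, IsOpenImmersion.lift_fac]
  have hbs : Spec.map b ≫ hV.fromSpec = s' := by rw [hb, IsOpenImmersion.lift_fac]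
  have hφa : φ ≫ a = 𝟙 _ := Spec.map_injective (by
    rw [Spec.map_comp, hφ, ← Category.assoc, has, hs, Spec.map_id])
  have hφb : φ ≫ b = 𝟙 _ := Spec.map_injective (by
    rw [Spec.map_comp, hφ, ← Category.assoc, hbs, hs', Spec.map_id])
  have hres : a ≫ CommRingCat.ofHom (residue R) = b ≫ CommRingCat.ofHom (residue R) := by
    apply Spec.map_injective
    rw [← cancel_mono hV.fromSpec, Spec.map_comp, Spec.map_comp, Category.assoc, Category.assoc,
      has, hbs, hst, hs't]
  have het : φ.hom.Etale := (HasRingHomProperty.Spec_iff (P := @Etale)).mp (by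
    rw [hφ]; infer_instance)
  algebraize [φ.hom]
  let a' : Γ(X, V) →ₐ[R] R := { a.hom with commutes' := fun r => congr($hφa r) }
  let b' : Γ(X, V) →ₐ[R] R := { b.hom with commutes' := fun r => congr($hφb r) }
  obtain ⟨τ, -, huniq⟩ := GrothLib.Hensel.existsUnique_algHom_lift (I := maximalIdeal R)
    ((Ideal.Quotient.mkₐ R (maximalIdeal R)).comp a')
  have hab : b' = a' := (huniq b' (AlgHom.ext fun z => congr($hres.symm z))).trans
    (huniq a' rfl).symm
  rw [← has, ← hbs]
  exact congrArg (fun q => Spec.map q ≫ hV.fromSpec)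
    (CommRingCat.hom_ext (congrArg AlgHom.toRingHom hab))

end GrothLib.EtLocal
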