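import Groth.Agent.Lib.EtLocal.Decomp
import Mathlib.AlgebraicGeometry.Pullbacks
import Mathlib.RingTheory.Unramified.Locus
import Mathlib.RingTheory.Localization.Away.Lemmas
import Mathlib.RingTheory.Spectrum.Prime.Topology

/-! # Ring-theoretic form of the étale-local decomposition at unramified primes. -/

set_option autoImplicit false
set_option backward.isDefEq.respectTransparency false

universe u

open CategoryTheory Limits AlgebraicGeometry TensorProduct

namespace GrothLib.EtLocal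

theorem surjective_of_isClosedImmersion_specMap {R S : CommRingCat.{u}} (f : R ⟶ S)
    [IsClosedImmersion (Spec.map f)] : Function.Surjective f.hom := by
  obtain ⟨-, h⟩ := IsClosedImmersion.isAffine_surjective_of_isAffine (Spec.map f)
  intro s
  obtain ⟨r, hr⟩ := h ((Scheme.ΓSpecIso S).inv.hom s)
  refine ⟨(Scheme.ΓSpecIso R).hom.hom r, ?_⟩
  have := congrArg (fun g : Γ(Spec R, ⊤) ⟶ S => g.hom r) (Scheme.ΓSpecIso_naturality f)
  refine Eq.trans this.symm ?_
  show (Scheme.ΓSpecIso S).hom.hom ((Spec.map f).appTop.hom r) = s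
  erw [hr]
  simp

/-- The quotient by `1 - e` as an open subscheme. -/
theorem surjective_quotient_of_closedImmersion {R' T : Type u} [CommRing R'] [CommRing T]
    [Algebra R' T] {e : T} (he : IsIdempotentElem e) {P : Scheme.{u}} (c : Spec (.of T) ⟶ P)
    [IsIso c] (V : P.Opens) (hV : c ⁻¹ᵁ V = PrimeSpectrum.basicOpen e) {U : Scheme.{u}}
    (σ : P ⟶ U) (ψ : Spec (.of R') ⟶ U) [IsIso ψ]
    (hσ : c ≫ σ = Spec.map (CommRingCat.ofHom (algebraMap R' T)) ≫ ψ)
    [IsClosedImmersion (V.ι ≫ σ)] :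
    Function.Surjective (algebraMap R' (T ⧸ Ideal.span {1 - e})) := by
  haveI := IsLocalization.Away.quotient_of_isIdempotentElem he
  let π : Spec (.of (T ⧸ Ideal.span {1 - e})) ⟶ Spec (.of T) :=
    Spec.map (CommRingCat.ofHom (algebraMap T (T ⧸ Ideal.span {1 - e})))
  haveI : IsOpenImmersion π := IsOpenImmersion.of_isLocalization e
  have hr : (π ≫ c).opensRange = V := by
    rw [Scheme.Hom.opensRange_comp]
    have h1 : π.opensRange = c ⁻¹ᵁ V := by
      rw [hV]
      exact TopologicalSpace.Opens.ext (PrimeSpectrum.localization_away_comap_range _ e)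
    rw [h1, Scheme.Hom.image_preimage_eq_opensRange_inf, Scheme.Hom.opensRange_of_isIso, top_inf_eq]
  subst hr
  haveI : IsClosedImmersion ((π ≫ c) ≫ σ) := by
    rw [← Scheme.Hom.isoOpensRange_hom_ι (π ≫ c), Category.assoc]
    infer_instance
  haveI : IsClosedImmersion
      (Spec.map (CommRingCat.ofHom (algebraMap R' (T ⧸ Ideal.span {1 - e})))) := by
    rw [← MorphismProperty.cancel_right_of_respectsIso @IsClosedImmersion _ ψ]
    have : Spec.map (CommRingCat.ofHom (algebraMap R' (T ⧸ Ideal.span {1 - e}))) ≫ ψ =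
        (π ≫ c) ≫ σ := by
      rw [Category.assoc, hσ, ← Category.assoc, ← Spec.map_comp, ← CommRingCat.ofHom_comp,
        ← IsScalarTower.algebraMap_eq]
    rwa [this]
  exact surjective_of_isClosedImmersion_specMap
    (CommRingCat.ofHom (algebraMap R' (T ⧸ Ideal.span {1 - e})))

/-- Idempotent decomposition over an étale neighbourhood, near finitely many unramified primes. -/
theorem exists_etale_idempotents (R S : Type u) [CommRing R] [CommRing S] [Algebra R S]
    [Algebra.FiniteType R S] (p : Ideal R) [p.IsPrime] {ι : Type} [Finite ι]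
    (x : ι → PrimeSpectrum S) (hinj : Function.Injective x)
    (hover : ∀ i, (x i).asIdeal.comap (algebraMap R S) = p)
    (hunr : ∀ i, Algebra.IsUnramifiedAt R (x i).asIdeal) :
    ∃ (R' : Type u) (_ : CommRing R') (_ : Algebra R R') (_ : Algebra.Etale R R') (p' : Ideal R')
      (_ : p'.IsPrime) (_ : p'.LiesOver p) (n : ℕ) (lab : Fin n → ι) (e : Fin n → R' ⊗[R] S)
      (P : Fin n → Ideal (R' ⊗[R] S)) (_ : ∀ k, (P k).IsPrime),
      (∀ k, IsIdempotentElem (e k)) ∧ (∀ k l, k ≠ l → e k * e l = 0) ∧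
      (∀ k, Function.Surjective (algebraMap R' ((R' ⊗[R] S) ⧸ Ideal.span {1 - e k}))) ∧
      (∀ k, e k ∉ P k) ∧
      (∀ k, (P k).comap (algebraMap R' (R' ⊗[R] S)) = p') ∧
      (∀ k, (P k).comap (Algebra.TensorProduct.includeRight : S →ₐ[R] R' ⊗[R] S).toRingHom =
        (x (lab k)).asIdeal) ∧
      (∀ (Q : Ideal (R' ⊗[R] S)) [Q.IsPrime], Q.comap (algebraMap R' (R' ⊗[R] S)) = p' →
        ∀ k, e k ∉ Q → Q = P k) ∧
      (∀ (Q : Ideal (R' ⊗[R] S)) [Q.IsPrime], Q.comap (algebraMap R' (R' ⊗[R] S)) = p' →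
        ∀ i, Q.comap (Algebra.TensorProduct.includeRight : S →ₐ[R] R' ⊗[R] S).toRingHom =
          (x i).asIdeal → ∃ k, lab k = i ∧ Q = P k) ∧
      Function.Surjective lab := by
  classical
  let f : Spec (.of S) ⟶ Spec (.of R) := Spec.map (CommRingCat.ofHom (algebraMap R S))
  haveI : LocallyOfFiniteType f :=
    HasRingHomProperty.Spec_iff.mpr (RingHom.finiteType_algebraMap.mpr ‹_›)
  let s : (Spec (CommRingCat.of R)) := ⟨p, ‹_›⟩
  have hs : ∀ i, f (x i) = s := fun i => PrimeSpectrum.ext (hover i)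
  have hx : ∀ i, ∃ W : (Spec (CommRingCat.of S)).Opens, x i ∈ W ∧ LocallyOfFiniteType (W.ι ≫ f) ∧
      FormallyUnramified (W.ι ≫ f) := fun i => by
    haveI := hunr i
    obtain ⟨r, hr, hfu⟩ := Algebra.exists_formallyUnramified_of_isUnramifiedAt (R := R) (x i).asIdeal
    let j : Spec (.of (Localization.Away r)) ⟶ Spec (.of S) :=
      Spec.map (CommRingCat.ofHom (algebraMap S (Localization.Away r)))
    haveI : IsOpenImmersion j := IsOpenImmersion.of_isLocalization r
    refine ⟨j.opensRange, ?_, inferInstance, ?_⟩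
    · show x i ∈ Set.range (PrimeSpectrum.comap (algebraMap S (Localization.Away r)))
      rw [PrimeSpectrum.localization_away_comap_range _ r]
      exact hr
    · rw [← MorphismProperty.cancel_left_of_respectsIso @FormallyUnramified j.isoOpensRange.hom,
        Scheme.Hom.isoOpensRange_hom_ι_assoc, ← Spec.map_comp, ← CommRingCat.ofHom_comp,
        ← IsScalarTower.algebraMap_eq, HasRingHomProperty.Spec_iff (P := @FormallyUnramified)]
      exact RingHom.formallyUnramified_algebraMap.mpr hfu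
  obtain ⟨U₀, g₀, u₀, hg₀, hgu₀, ⟨P₀⟩⟩ := exists_parts f s x hinj hs hx
  haveI := hg₀
  obtain ⟨U₁, u₁, P₁, W₁, hu₁, -, -, -, hd, -⟩ := P₀.exists_decomposition
  -- shrink to an affine neighbourhood
  obtain ⟨_, ⟨U₂', hU₂', rfl⟩, hu₂, -⟩ := U₁.toScheme.isBasis_affineOpens.exists_subset_of_mem_open
    (Set.mem_univ u₁) isOpen_univ
  let U₂ : U₁.toScheme.Opens := U₂'
  have hU₂ : IsAffineOpen U₂ := hU₂'
  let Q := P₁.shrink U₂ ⟨u₁, hu₂⟩ rfl (P₁.closed_restrict U₂)
  let g : U₂.toScheme ⟶ Spec (.of R) := U₂.ι ≫ U₁.ι ≫ g₀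
  haveI : Etale g := inferInstance
  have hgu : g ⟨u₁, hu₂⟩ = s := by
    show g₀ u₁.1 = s
    rw [hu₁]; exact hgu₀
  haveI hQf := Q.fin
  haveI : IsAffine U₂ := hU₂
  let R' : Type u := Γ(U₂.toScheme, ⊤)
  let ψ : Spec (.of R') ⟶ U₂.toScheme := U₂.toScheme.isoSpec.inv
  let φ : CommRingCat.of R ⟶ .of R' := Spec.preimage (ψ ≫ g)
  letI : Algebra R R' := φ.hom.toAlgebra
  have hφ : Spec.map (CommRingCat.ofHom (algebraMap R R')) = ψ ≫ g := Spec.map_preimage _
  haveI : Algebra.Etale R R' := by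
    rw [← RingHom.etale_algebraMap, ← CommRingCat.hom_ofHom (algebraMap R R'),
      ← HasRingHomProperty.Spec_iff (P := @Etale), hφ]
    infer_instance
  let T : Type u := R' ⊗[R] S
  let c : Spec (.of T) ⟶ pullback f g :=
    (pullbackSpecIso R R' S).inv ≫ (pullbackSymmetry _ _).hom ≫
      pullback.map _ _ f g (𝟙 _) ψ (𝟙 _) (by simp [f]) (by simp [hφ])
  haveI : IsIso c := inferInstance
  have hc1 : c ≫ pullback.fst f g = Spec.map (CommRingCat.ofHom
      (Algebra.TensorProduct.includeRight : S →ₐ[R] T).toRingHom) := by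
    simp only [c, Category.assoc, pullback.lift_fst, Category.comp_id,
      pullbackSymmetry_hom_comp_fst]
    exact pullbackSpecIso_inv_snd ..
  have hc2 : c ≫ pullback.snd f g = Spec.map (CommRingCat.ofHom (algebraMap R' T)) ≫ ψ := by
    simp only [c, Category.assoc, pullback.lift_snd]
    rw [pullbackSymmetry_hom_comp_snd_assoc, ← Category.assoc, pullbackSpecIso_inv_fst]
    rfl
  have hdQ : ∀ k l, k ≠ l → ∀ w ∈ Q.V k, w ∉ Q.V l := fun k l hne w hw hw' =>
    (hd k l hne).le_bot (show restrictMap f (U₁.ι ≫ g₀) U₂ w ∈ P₁.V k ⊓ P₁.V l from ⟨hw, hw'⟩)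
  have hcl : ∀ k, IsClopen (c ⁻¹ᵁ Q.V k : Set ↥(Spec (CommRingCat.of T))) := fun k =>
    ⟨(Q.isClosed k).preimage c.continuous, (c ⁻¹ᵁ Q.V k).2⟩
  choose e he heV using fun k => PrimeSpectrum.exists_idempotent_basicOpen_eq_of_isClopen (hcl k)
  obtain ⟨n, ⟨en⟩⟩ := Finite.exists_equiv_fin Q.K
  let p' : PrimeSpectrum R' := U₂.toScheme.isoSpec.hom ⟨u₁, hu₂⟩
  have hψp : ψ p' = ⟨u₁, hu₂⟩ := by
    show (U₂.toScheme.isoSpec.hom ≫ U₂.toScheme.isoSpec.inv) _ = _
    rw [Iso.hom_inv_id]; rfl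
  haveI : p'.asIdeal.LiesOver p := ⟨by
    have h := congrArg (fun t => t p') hφ
    simp only [Scheme.Hom.comp_apply, hψp, hgu] at h
    exact congrArg PrimeSpectrum.asIdeal h.symm⟩
  let pt : Fin n → PrimeSpectrum T := fun k => inv c (Q.v (en.symm k))
  have hcpt : ∀ k, c (pt k) = Q.v (en.symm k) := fun k => by
    show (inv c ≫ c) _ = _
    rw [IsIso.inv_hom_id]; rfl
  have hover' : ∀ (z : PrimeSpectrum T), z.asIdeal.comap (algebraMap R' T) = p'.asIdeal ↔
      pullback.snd f g (c z) = ⟨u₁, hu₂⟩ := fun z => by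
    rw [← Scheme.Hom.comp_apply, hc2, Scheme.Hom.comp_apply]
    constructor
    · intro h
      rw [show Spec.map (CommRingCat.ofHom (algebraMap R' T)) z = p' from PrimeSpectrum.ext h, hψp]
    · intro h
      exact congrArg PrimeSpectrum.asIdeal (ψ.isOpenEmbedding.injective (h.trans hψp.symm))
  have hfst : ∀ (z : PrimeSpectrum T), pullback.fst f g (c z) =
      PrimeSpectrum.comap (Algebra.TensorProduct.includeRight : S →ₐ[R] T).toRingHom z := fun z => by
    rw [← Scheme.Hom.comp_apply, hc1]; rfl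
  have hmem : ∀ (k : Q.K) (z : PrimeSpectrum T), c z ∈ Q.V k ↔ e k ∉ z.asIdeal := fun k z =>
    Iff.of_eq (congrArg (fun t : Set _ => z ∈ t) (heV k))
  refine ⟨R', inferInstance, inferInstance, inferInstance, p'.asIdeal, p'.2, inferInstance, n,
    fun k => Q.lab (en.symm k), fun k => e (en.symm k), fun k => (pt k).asIdeal, fun k => (pt k).2,
    fun k => he _, fun k l hkl => ?_, fun k => ?_, fun k => ?_, fun k => ?_, fun k => ?_, ?_, ?_, ?_⟩
  · have hb : PrimeSpectrum.basicOpen (e (en.symm k) * e (en.symm l)) = ⊥ := by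
      rw [PrimeSpectrum.basicOpen_mul]
      refine eq_bot_iff.mpr fun z hz => ?_
      exact absurd ((hmem _ z).mpr hz.2) (hdQ _ _ (fun h => hkl (en.symm.injective h)) _ ((hmem _ z).mpr hz.1))
    obtain ⟨m, hm⟩ := (PrimeSpectrum.basicOpen_eq_bot_iff _).mp hb
    have hidem : IsIdempotentElem (e (en.symm k) * e (en.symm l)) :=
      (he (en.symm k)).mul (he (en.symm l))
    rw [← hidem.pow_succ_eq m, pow_succ, hm, zero_mul]
  · haveI := Q.closed (en.symm k)
    exact surjective_quotient_of_closedImmersion (he _) c (Q.V (en.symm k))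
      (TopologicalSpace.Opens.ext (heV _)) (pullback.snd f g) ψ hc2
  · exact (hmem _ _).mp (by rw [hcpt]; exact Q.mem _)
  · exact (hover' (pt k)).mpr (by rw [hcpt]; exact Q.over _)
  · have h := (hfst (pt k)).symm
    rw [hcpt, Q.fst_v] at h
    exact congrArg PrimeSpectrum.asIdeal h
  · intro I hI h k hk
    have h1 : c ⟨I, hI⟩ = Q.v (en.symm k) :=
      Q.uniq _ _ ((hmem _ _).mpr hk) ((hover' _).mp h)
    rw [← hcpt] at h1
    exact congrArg PrimeSpectrum.asIdeal (c.isOpenEmbedding.injective h1)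
  · intro I hI h i hi
    obtain ⟨k, hk, hk'⟩ := Q.cover (c ⟨I, hI⟩) i ((hover' _).mp h)
      ((hfst _).trans (PrimeSpectrum.ext hi))
    refine ⟨en k, by simpa using hk, ?_⟩
    have h1 : c ⟨I, hI⟩ = c (pt (en k)) := by rw [hcpt, en.symm_apply_apply]; exact hk'
    exact congrArg PrimeSpectrum.asIdeal (c.isOpenEmbedding.injective h1)
  · intro i
    obtain ⟨w, hwx, hwu⟩ := Scheme.Pullback.exists_preimage_pullback (f := f) (g := g) (x i) _
      ((hs i).trans hgu.symm)
    obtain ⟨k, hk, -⟩ := Q.cover w i hwu hwx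
    exact ⟨en k, by simpa using hk⟩

/-- The prime of a split factor lying over `p'`. -/
theorem map_eq_map_mk {R' T : Type u} [CommRing R'] [CommRing T] [Algebra R' T] {e : T}
    (he : IsIdempotentElem e) (hs : Function.Surjective (algebraMap R' (T ⧸ Ideal.span {1 - e})))
    {P : Ideal T} [P.IsPrime] (hP : e ∉ P) {p' : Ideal R'} (hc : P.comap (algebraMap R' T) = p') :
    (p'.map (algebraMap R' (T ⧸ Ideal.span {1 - e}))).IsPrime ∧
      (p'.map (algebraMap R' (T ⧸ Ideal.span {1 - e}))).comap (algebraMap R' (T ⧸ Ideal.span {1 - e})) = p' ∧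
      (p'.map (algebraMap R' (T ⧸ Ideal.span {1 - e}))).comap (Ideal.Quotient.mk _) = P := by
  have hle : Ideal.span {1 - e} ≤ P := by
    rw [Ideal.span_le, Set.singleton_subset_iff]
    exact (‹P.IsPrime›.mem_or_mem (show e * (1 - e) ∈ P by
      rw [mul_sub, mul_one, he.eq, sub_self]; exact P.zero_mem)).resolve_left hP
  have h1 : ((P.map (Ideal.Quotient.mk (Ideal.span {1 - e}))).comap (Ideal.Quotient.mk _)) = P := by
    rw [Ideal.comap_map_of_surjective _ Ideal.Quotient.mk_surjective, ← RingHom.ker_eq_comap_bot,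
      Ideal.mk_ker, sup_eq_left.mpr hle]
  have h2 : (P.map (Ideal.Quotient.mk (Ideal.span {1 - e}))).comap
      (algebraMap R' (T ⧸ Ideal.span {1 - e})) = p' := by
    rw [← Ideal.Quotient.mk_comp_algebraMap, ← Ideal.comap_comap, h1, hc]
  have h3 : p'.map (algebraMap R' (T ⧸ Ideal.span {1 - e})) =
      P.map (Ideal.Quotient.mk (Ideal.span {1 - e})) := by
    rw [← h2, Ideal.map_comap_of_surjective _ hs]
  rw [h3]
  exact ⟨Ideal.map_isPrime_of_surjective Ideal.Quotient.mk_surjective (by rwa [Ideal.mk_ker]), h2, h1⟩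

section Product

variable {R' T : Type u} [CommRing R'] [CommRing T] [Algebra R' T] {n : ℕ} (e : Fin n → T)

/-- Splitting off orthogonal idempotents. -/
noncomputable def piProdHom : T →ₐ[R'] (∀ k, T ⧸ Ideal.span {1 - e k}) × (T ⧸ Ideal.span {∑ k, e k}) :=
  (AlgHom.pi (fun k => Ideal.Quotient.mkₐ R' (Ideal.span {1 - e k}))).prod (Ideal.Quotient.mkₐ R' _)

theorem piProdHom_bijective (he : ∀ k, IsIdempotentElem (e k)) (ho : ∀ k l, k ≠ l → e k * e l = 0) :
    Function.Bijective (piProdHom (R' := R') e) := by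
  classical
  have hE : ∀ k, (∑ l, e l) * e k = e k := fun k => by
    rw [Finset.sum_mul, Finset.sum_eq_single k (fun l _ hl => ho l k hl) (by simp), he k]
  have hEE : (∑ l, e l) * (∑ l, e l) = ∑ l, e l := by
    rw [Finset.mul_sum]; exact Finset.sum_congr rfl fun k _ => hE k
  constructor
  · rw [injective_iff_map_eq_zero]
    intro t ht
    have h1 : ∀ k, t * e k = 0 := fun k => by
      obtain ⟨a, rfl⟩ := Ideal.mem_span_singleton.mp
        (Ideal.Quotient.eq_zero_iff_mem.mp (congrFun (congrArg Prod.fst ht) k))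
      linear_combination -a * (he k).eq
    obtain ⟨b, hb⟩ := Ideal.mem_span_singleton.mp
      (Ideal.Quotient.eq_zero_iff_mem.mp (congrArg Prod.snd ht))
    calc t = (∑ l, e l) * b := hb
      _ = (∑ l, e l) * ((∑ l, e l) * b) := by rw [← mul_assoc, hEE]
      _ = ∑ l, t * e l := by rw [← hb, Finset.sum_mul]; exact Finset.sum_congr rfl fun l _ => mul_comm _ _
      _ = 0 := Finset.sum_eq_zero fun l _ => h1 l
  · rintro ⟨a, b⟩
    choose a' ha using fun k => Ideal.Quotient.mk_surjective (a k)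
    obtain ⟨b', rfl⟩ := Ideal.Quotient.mk_surjective b
    refine ⟨(∑ k, a' k * e k) + b' * (1 - ∑ k, e k), Prod.ext (funext fun k => ?_) ?_⟩
    · show Ideal.Quotient.mk (Ideal.span {1 - e k}) _ = a k
      rw [← ha k]
      refine Ideal.Quotient.eq.mpr (Ideal.mem_span_singleton.mpr
        ⟨(∑ l, a' l * e l) + b' * (1 - ∑ l, e l) - a' k, ?_⟩)
      have h1 : e k * (∑ l, a' l * e l) = a' k * e k := by
        rw [Finset.mul_sum, Finset.sum_eq_single k]
        · rw [mul_left_comm, he k]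
        · intro l _ hl; rw [mul_left_comm, ho k l hl.symm, mul_zero]
        · simp
      have h2 := hE k
      linear_combination h1 - b' * h2
    · refine Ideal.Quotient.eq.mpr (Ideal.mem_span_singleton.mpr
        ⟨(∑ k, a' k * e k) - b', ?_⟩)
      have h1 : (∑ l, e l) * (∑ k, a' k * e k) = ∑ k, a' k * e k := by
        rw [Finset.mul_sum]
        exact Finset.sum_congr rfl fun k _ => by rw [mul_left_comm, hE k]
      linear_combination -h1

end Product

end GrothLib.EtLocal
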