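import Groth.Agent.Lib.Depth.Transfer
import Mathlib.RingTheory.Smooth.Flat
import Mathlib.RingTheory.Etale.Basic
import Mathlib.RingTheory.Unramified.LocalRing
import Mathlib.RingTheory.Ideal.KrullsHeightTheorem
import Mathlib.RingTheory.Flat.FaithfullyFlat.Algebra

/-! Etale local homomorphisms of Noetherian local rings. -/

universe u
open TensorProduct IsLocalRing

namespace GrothLib.EtLocal

variable (A B : Type u) [CommRing A] [CommRing B] [IsLocalRing A] [IsLocalRing B]
    [Algebra A B] [IsLocalHom (algebraMap A B)]
    (E : Type u) [CommRing E] [Algebra A E] [Algebra.Etale A E] (P : Ideal E) [P.IsPrime]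
    [Algebra E B] [IsScalarTower A E B] [IsLocalization.AtPrime B P]

include E P

theorem faithfullyFlat : Module.FaithfullyFlat A B := by
  have : Module.Flat E B := IsLocalization.flat B P.primeCompl
  have : Module.Flat A B := Module.Flat.trans A E B
  exact Module.FaithfullyFlat.of_flat_of_isLocalHom

theorem formallyUnramified : Algebra.FormallyUnramified A B := by
  have : Algebra.FormallyEtale E B := Algebra.FormallyEtale.of_isLocalization (M := P.primeCompl)
  exact Algebra.FormallyUnramified.comp A E B

theorem map_maximalIdeal : (maximalIdeal A).map (algebraMap A B) = maximalIdeal B := by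
  have := formallyUnramified A B E P
  have : Algebra.EssFiniteType E B := Algebra.EssFiniteType.of_isLocalization B P.primeCompl
  have : Algebra.EssFiniteType A B := Algebra.EssFiniteType.comp A E B
  exact Algebra.FormallyUnramified.map_maximalIdeal

variable [IsNoetherianRing A] [IsNoetherianRing B]

theorem ringKrullDim_eq : ringKrullDim B = ringKrullDim A := by
  have := faithfullyFlat A B E P
  have : (maximalIdeal B).LiesOver (maximalIdeal A) :=
    ⟨(maximalIdeal_comap (algebraMap A B)).symm⟩
  rw [← maximalIdeal_height_eq_ringKrullDim, ← maximalIdeal_height_eq_ringKrullDim,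
    Ideal.height_eq_height_add_of_liesOver_of_hasGoingDown (maximalIdeal A) (maximalIdeal B)]
  have hb : ((maximalIdeal B).map (Ideal.Quotient.mk ((maximalIdeal A).map (algebraMap A B)))) = ⊥ := by
    rw [map_maximalIdeal A B E P, Ideal.map_quotient_self]
  have : Nontrivial (B ⧸ (maximalIdeal A).map (algebraMap A B)) :=
    Ideal.Quotient.nontrivial_iff.2 (by rw [map_maximalIdeal A B E P]; exact Ideal.IsPrime.ne_top')
  have : IsField (B ⧸ (maximalIdeal A).map (algebraMap A B)) := by
    rw [map_maximalIdeal A B E P]
    exact (Ideal.Quotient.maximal_ideal_iff_isField_quotient _).1 inferInstance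
  letI := this.toField
  rw [hb, Ideal.height_bot, add_zero]

theorem depth_eq : LocCoh.depth A A = LocCoh.depth B B := by
  have := faithfullyFlat A B E P
  rw [LocCoh.depth, LocCoh.depth, ← GrothLib.Depth.idealDepth_baseChange_eq (B := B) (maximalIdeal A) A,
    map_maximalIdeal A B E P]
  exact GrothLib.Depth.idealDepth_eq_of_equiv _ (TensorProduct.AlgebraTensorModule.rid A B B)

end GrothLib.EtLocal
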