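import Groth.Agent.Lib.EtLocal.Parts
import Mathlib.AlgebraicGeometry.Morphisms.FlatMono
import Mathlib.AlgebraicGeometry.Limits

/-! # Decompositions over étale neighbourhoods near finitely many unramified/étale points. -/

set_option autoImplicit false
set_option backward.isDefEq.respectTransparency false

universe u

open CategoryTheory Limits AlgebraicGeometry Topology

namespace GrothLib.EtLocal

variable {X S : Scheme.{u}} {f : X ⟶ S} {U : Scheme.{u}} {g : U ⟶ S} {u : U} {ι : Type} {x : ι → X}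

/-- All parts map isomorphically. -/
def Parts.AllIso (P : Parts f g u x) : Prop := ∀ k, IsIso ((P.V k).ι ≫ pullback.snd f g)

lemma Parts.shrink_allIso (P : Parts f g u x) (U' : U.Opens) (u' : U') (hu : u'.1 = u)
    (hi : ∀ k, IsIso (((P.V k).ι ≫ pullback.snd f g) ∣_ U')) (hc) :
    (P.shrink U' u' hu hc).AllIso :=
  fun k ↦ restrict_part (P := MorphismProperty.isomorphisms Scheme) U' (P.V k) (hi k)

lemma Parts.closed_restrict (P : Parts f g u x) (U' : U.Opens) (k : P.K) :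
    IsClosedImmersion (((P.V k).ι ≫ pullback.snd f g) ∣_ U') :=
  IsZariskiLocalAtTarget.restrict (P.closed k) U'

theorem exists_parts_of_etale (f : X ⟶ S) [Etale f] (s : S) {ι : Type} [Finite ι] (x : ι → X)
    (hinj : Function.Injective x) (hs : ∀ i, f (x i) = s) :
    ∃ (U : Scheme.{u}) (g : U ⟶ S) (u : U), Etale g ∧ g u = s ∧
      ∃ P : Parts f g u x, P.AllIso := by
  obtain ⟨U, g, u, hg, hgu, ⟨P⟩⟩ := exists_parts_of_formallyUnramified f s x hinj hs
  haveI := hg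
  haveI := P.fin
  haveI : Etale (pullback.snd f g) := MorphismProperty.pullback_snd _ _ inferInstance
  haveI hopen : ∀ k, IsOpenImmersion ((P.V k).ι ≫ pullback.snd f g) := fun k ↦ by
    haveI := P.closed k
    exact IsOpenImmersion.of_flat_of_mono _
  let U' : U.Opens := ⟨⋂ k, Set.range ((P.V k).ι ≫ pullback.snd f g),
    isOpen_iInter_of_finite fun k ↦ ((P.V k).ι ≫ pullback.snd f g).isOpenEmbedding.isOpen_range⟩
  have hu : u ∈ U' := Set.mem_iInter.mpr fun k ↦ ⟨⟨P.v k, P.mem k⟩, P.over k⟩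
  refine ⟨U', U'.ι ≫ g, ⟨u, hu⟩, inferInstance, ?_,
    P.shrink U' ⟨u, hu⟩ rfl (P.closed_restrict U'), P.shrink_allIso U' _ rfl (fun k ↦ ?_) _⟩
  · rw [Scheme.Hom.comp_apply]; exact hgu
  · haveI : IsOpenImmersion (((P.V k).ι ≫ pullback.snd f g) ∣_ U') :=
      IsZariskiLocalAtTarget.restrict (hopen k) U'
    rw [isIso_iff_isOpenImmersion_and_surjective]
    refine ⟨inferInstance, ⟨fun z ↦ ?_⟩⟩
    obtain ⟨y, hy⟩ := Set.mem_iInter.mp z.2 k
    refine ⟨⟨y, show ((P.V k).ι ≫ pullback.snd f g) y ∈ U' by rw [hy]; exact z.2⟩, ?_⟩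
    apply U'.ι.isOpenEmbedding.injective
    rw [← Scheme.Hom.comp_apply, morphismRestrict_ι]
    exact hy

/-- The comparison map of an open subscheme of the source. -/
noncomputable def openMap (f : X ⟶ S) (X₀ : X.Opens) {U : Scheme.{u}} (g : U ⟶ S) :
    pullback (X₀.ι ≫ f) g ⟶ pullback f g :=
  pullback.lift (pullback.fst _ _ ≫ X₀.ι) (pullback.snd _ _)
    (by rw [Category.assoc]; exact pullback.condition)

@[reassoc (attr := simp)]
lemma openMap_fst (f : X ⟶ S) (X₀ : X.Opens) {U : Scheme.{u}} (g : U ⟶ S) :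
    openMap f X₀ g ≫ pullback.fst f g = pullback.fst _ _ ≫ X₀.ι :=
  pullback.lift_fst _ _ _

@[reassoc (attr := simp)]
lemma openMap_snd (f : X ⟶ S) (X₀ : X.Opens) {U : Scheme.{u}} (g : U ⟶ S) :
    openMap f X₀ g ≫ pullback.snd f g = pullback.snd _ _ :=
  pullback.lift_snd _ _ _

lemma isPullback_openMap (f : X ⟶ S) (X₀ : X.Opens) {U : Scheme.{u}} (g : U ⟶ S) :
    IsPullback (openMap f X₀ g) (pullback.fst (X₀.ι ≫ f) g) (pullback.fst f g) X₀.ι := by
  refine IsPullback.of_right (h₁₂ := pullback.snd f g) (h₂₂ := f) (v₁₃ := g) ?_ (openMap_fst f X₀ g)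
    (IsPullback.of_hasPullback f g).flip
  rw [openMap_snd]
  exact (IsPullback.of_hasPullback (X₀.ι ≫ f) g).flip

instance (f : X ⟶ S) (X₀ : X.Opens) {U : Scheme.{u}} (g : U ⟶ S) :
    IsOpenImmersion (openMap f X₀ g) :=
  MorphismProperty.of_isPullback (P := @IsOpenImmersion) (isPullback_openMap f X₀ g).flip
    inferInstance

/-- Transport parts along an open subscheme of the source containing all the `x i`. -/
noncomputable def Parts.mapOpen {X₀ : X.Opens} {x₀ : ι → X₀}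
    (P : Parts (X₀.ι ≫ f) g u x₀) (hx₀ : ∀ i, (x₀ i).1 = x i) :
    Parts f g u x := by
  let e : pullback (X₀.ι ≫ f) g ⟶ pullback f g := openMap f X₀ g
  have he1 : e ≫ pullback.fst f g = pullback.fst _ _ ≫ X₀.ι := openMap_fst f X₀ g
  have he2 : e ≫ pullback.snd f g = pullback.snd _ _ := openMap_snd f X₀ g
  have hsq := isPullback_openMap f X₀ g
  refine
    { K := P.K, fin := P.fin, lab := P.lab, V := fun k ↦ e ''ᵁ P.V k, v := fun k ↦ e (P.v k),
      mem := fun k ↦ ⟨_, P.mem k, rfl⟩, closed := ?_, over := ?_, fst_v := ?_, uniq := ?_,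
      inj := e.isOpenEmbedding.injective.comp P.inj, cover := ?_ }
  · intro k
    rw [← MorphismProperty.cancel_left_of_respectsIso @IsClosedImmersion (e.isoImage (P.V k)).hom,
      Scheme.Hom.isoImage_hom_ι_assoc, he2]
    exact P.closed k
  · intro k
    rw [← Scheme.Hom.comp_apply, he2]
    exact P.over k
  · intro k
    rw [← Scheme.Hom.comp_apply, he1, Scheme.Hom.comp_apply, P.fst_v k]
    exact hx₀ _
  · rintro k _ ⟨w, hw, rfl⟩ hwu
    change pullback.snd f g (e w) = u at hwu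
    show e w = e (P.v k)
    rw [← Scheme.Hom.comp_apply, he2] at hwu
    rw [P.uniq k w hw hwu]
  · intro w i hwu hwx
    obtain ⟨w', rfl, -⟩ := Scheme.exists_preimage_of_isPullback hsq w (x₀ i)
      (by rw [hwx]; exact (hx₀ i).symm)
    rw [← Scheme.Hom.comp_apply, he2] at hwu
    rw [← Scheme.Hom.comp_apply, he1, Scheme.Hom.comp_apply, ← hx₀] at hwx
    obtain ⟨k, hk, rfl⟩ := P.cover w' i hwu (X₀.ι.isOpenEmbedding.injective hwx)
    exact ⟨k, hk, rfl⟩

lemma Parts.mapOpen_allIso {X₀ : X.Opens} {x₀ : ι → X₀}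
    (P : Parts (X₀.ι ≫ f) g u x₀) (hP : P.AllIso) (hx₀ : ∀ i, (x₀ i).1 = x i) :
    (P.mapOpen hx₀ : Parts f g u x).AllIso := by
  intro k
  haveI := hP k
  have h : ((openMap f X₀ g).isoImage (P.V k)).hom ≫ (openMap f X₀ g ''ᵁ P.V k).ι ≫ pullback.snd f g =
      (P.V k).ι ≫ pullback.snd (X₀.ι ≫ f) g := by
    rw [Scheme.Hom.isoImage_hom_ι_assoc, openMap_snd]
  show IsIso ((openMap f X₀ g ''ᵁ P.V k).ι ≫ pullback.snd f g)
  exact IsIso.of_isIso_fac_left h

theorem exists_parts (f : X ⟶ S) (s : S) {ι : Type} [Finite ι] (x : ι → X)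
    (hinj : Function.Injective x) (hs : ∀ i, f (x i) = s)
    (hx : ∀ i, ∃ W : X.Opens, x i ∈ W ∧ LocallyOfFiniteType (W.ι ≫ f) ∧
      FormallyUnramified (W.ι ≫ f)) :
    ∃ (U : Scheme.{u}) (g : U ⟶ S) (u : U), Etale g ∧ g u = s ∧ Nonempty (Parts f g u x) := by
  choose W hW h1 h2 using hx
  let X₀ : X.Opens := ⨆ i, W i
  have loc : ∀ (P : MorphismProperty Scheme.{u}) [IsZariskiLocalAtSource P],
      (∀ i, P ((W i).ι ≫ f)) → P (X₀.ι ≫ f) := by
    intro P _ h
    refine (IsZariskiLocalAtSource.iff_of_openCover (P := P)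
      (Scheme.Opens.iSupOpenCover W)).mpr fun i ↦ ?_
    show P (X.homOfLE (le_iSup W i) ≫ X₀.ι ≫ f)
    rw [X.homOfLE_ι_assoc]; exact h i
  haveI : LocallyOfFiniteType (X₀.ι ≫ f) := loc @LocallyOfFiniteType h1
  haveI : FormallyUnramified (X₀.ι ≫ f) := loc @FormallyUnramified h2
  let x₀ : ι → X₀ := fun i ↦ ⟨x i, TopologicalSpace.Opens.mem_iSup.mpr ⟨i, hW i⟩⟩
  obtain ⟨U, g, u, hg, hgu, ⟨P⟩⟩ := exists_parts_of_formallyUnramified (X₀.ι ≫ f) s x₀
    (fun a b h ↦ hinj (congrArg Subtype.val h))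
    (fun i ↦ by rw [Scheme.Hom.comp_apply]; exact hs i)
  exact ⟨U, g, u, hg, hgu, ⟨P.mapOpen fun _ ↦ rfl⟩⟩

theorem exists_parts_iso (f : X ⟶ S) (s : S) {ι : Type} [Finite ι] (x : ι → X)
    (hinj : Function.Injective x) (hs : ∀ i, f (x i) = s)
    (hx : ∀ i, ∃ W : X.Opens, x i ∈ W ∧ Etale (W.ι ≫ f)) :
    ∃ (U : Scheme.{u}) (g : U ⟶ S) (u : U), Etale g ∧ g u = s ∧
      ∃ P : Parts f g u x, P.AllIso := by
  choose W hW h1 using hx
  let X₀ : X.Opens := ⨆ i, W i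
  haveI : Etale (X₀.ι ≫ f) := by
    refine (IsZariskiLocalAtSource.iff_of_openCover (P := @Etale)
      (Scheme.Opens.iSupOpenCover W)).mpr fun i ↦ ?_
    show Etale (X.homOfLE (le_iSup W i) ≫ X₀.ι ≫ f)
    rw [X.homOfLE_ι_assoc]; exact h1 i
  let x₀ : ι → X₀ := fun i ↦ ⟨x i, TopologicalSpace.Opens.mem_iSup.mpr ⟨i, hW i⟩⟩
  obtain ⟨U, g, u, hg, hgu, P, hP⟩ := exists_parts_of_etale (X₀.ι ≫ f) s x₀
    (fun a b h ↦ hinj (congrArg Subtype.val h))
    (fun i ↦ by rw [Scheme.Hom.comp_apply]; exact hs i)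
  exact ⟨U, g, u, hg, hgu, P.mapOpen fun _ ↦ rfl, P.mapOpen_allIso hP fun _ ↦ rfl⟩

/-- For separated `f`, each part is closed, and overlaps can be removed. -/
lemma Parts.isClosed [IsSeparated f] (P : Parts f g u x) (k : P.K) :
    IsClosed (P.V k : Set ↥(pullback f g)) := by
  haveI := P.closed k
  haveI : IsClosedImmersion (P.V k).ι := IsClosedImmersion.of_comp _ (pullback.snd f g)
  simpa using (P.V k).ι.isClosedEmbedding.isClosed_range

/-- The neighbourhood over which the parts are pairwise disjoint. -/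
lemma Parts.exists_disjoint [IsSeparated f] (P : Parts f g u x) :
    ∃ U' : U.Opens, u ∈ U' ∧ ∀ k k', k ≠ k' → ∀ w ∈ P.V k, w ∈ P.V k' →
      pullback.snd f g w ∉ U' := by
  classical
  haveI := P.fin
  let C : P.K × P.K → Set U := fun p ↦
    if p.1 = p.2 then ∅ else ((P.V p.1).ι ≫ pullback.snd f g) '' ((P.V p.1).ι ⁻¹' P.V p.2)
  have hC : ∀ p, IsClosed (C p) := fun p ↦ by
    simp only [C]
    split_ifs
    · exact isClosed_empty
    · haveI := P.closed p.1
      exact ((P.V p.1).ι ≫ pullback.snd f g).isClosedEmbedding.isClosedMap _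
        ((P.isClosed p.2).preimage (P.V p.1).ι.continuous)
  refine ⟨⟨(⋃ p, C p)ᶜ, (isClosed_iUnion_of_finite hC).isOpen_compl⟩, ?_, ?_⟩
  · refine fun hu ↦ ?_
    obtain ⟨p, hp⟩ := Set.mem_iUnion.mp hu
    simp only [C] at hp
    split_ifs at hp with h
    · exact hp
    · obtain ⟨w, hw, hwu⟩ := hp
      exact h (P.inj ((P.uniq p.1 w.1 w.2 hwu).symm.trans (P.uniq p.2 w.1 hw hwu)))
  · intro k k' hne w hw hw' hwU
    refine hwU (Set.mem_iUnion.mpr ⟨(k, k'), ?_⟩)
    simp only [C, hne, if_false]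
    exact ⟨⟨w, hw⟩, hw', rfl⟩

/-- Shrunk to be pairwise disjoint, with the complementary open. -/
theorem Parts.exists_decomposition [IsSeparated f] [Etale g] (P : Parts f g u x) :
    ∃ (U' : U.Opens) (u' : U') (P' : Parts f (U'.ι ≫ g) u' x)
      (W : (pullback f (U'.ι ≫ g)).Opens),
      u'.1 = u ∧ (P.AllIso → P'.AllIso) ∧
        W ⊔ (⨆ k, P'.V k) = ⊤ ∧ (∀ k, Disjoint W (P'.V k)) ∧
        (∀ k k', k ≠ k' → Disjoint (P'.V k) (P'.V k')) ∧
        ∀ w i, w ∈ W → pullback.snd f (U'.ι ≫ g) w = u' → pullback.fst f (U'.ι ≫ g) w ≠ x i := by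
  haveI := P.fin
  obtain ⟨U', hu, hU'⟩ := P.exists_disjoint
  let P' := P.shrink U' ⟨u, hu⟩ rfl (P.closed_restrict U')
  haveI := P'.fin
  have hcl : IsClosed (⋃ k, (P'.V k : Set ↥(pullback f (U'.ι ≫ g)))) :=
    isClosed_iUnion_of_finite P'.isClosed
  refine ⟨U', ⟨u, hu⟩, P', ⟨_, hcl.isOpen_compl⟩, rfl, fun h ↦ P.shrink_allIso U' _ rfl
    (fun k ↦ IsZariskiLocalAtTarget.restrict (P := MorphismProperty.isomorphisms Scheme) (h k) U') _,
    ?_, ?_, ?_, ?_⟩
  · refine top_le_iff.mp fun w _ ↦ ?_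
    simp only [TopologicalSpace.Opens.mem_sup, TopologicalSpace.Opens.mem_iSup]
    by_cases h : ∃ k, w ∈ P'.V k
    · exact Or.inr h
    · exact Or.inl fun hw ↦ h (Set.mem_iUnion.mp hw)
  · intro k
    rw [disjoint_iff_inf_le]
    rintro w ⟨hw, hwk⟩
    exact absurd (Set.mem_iUnion.mpr ⟨k, hwk⟩) hw
  · intro k k' hne
    rw [disjoint_iff_inf_le]
    rintro w ⟨hw, hw'⟩
    refine absurd ?_ (hU' k k' hne (restrictMap f g U' w) hw hw')
    rw [← Scheme.Hom.comp_apply, restrictMap_snd, Scheme.Hom.comp_apply]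
    exact (pullback.snd f (U'.ι ≫ g) w).2
  · intro w i hw hwu hwx
    obtain ⟨k, -, rfl⟩ := P'.cover w i hwu hwx
    exact hw (Set.mem_iUnion.mpr ⟨k, P'.mem k⟩)

end GrothLib.EtLocal
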