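import Groth.Prelude.Def_SchLoc
import Mathlib.AlgebraicGeometry.Morphisms.FormallyUnramified
import Mathlib.CategoryTheory.MorphismProperty.Limits

/-! # Unramified near a point iff the diagonal is a local isomorphism there. -/

set_option autoImplicit false
set_option backward.isDefEq.respectTransparency false

universe u

open CategoryTheory Limits AlgebraicGeometry

namespace GrothLib.EtLocal

variable {X Y : Scheme.{u}}

/-- A map to an unramified target whose composite is an open immersion is an open immersion. -/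
theorem isOpenImmersion_of_comp_unramified {A B : Scheme.{u}} (s : A ⟶ B) (h : B ⟶ Y)
    [FormallyUnramified h] [LocallyOfFiniteType h] [IsOpenImmersion (s ≫ h)] : IsOpenImmersion s := by
  have hP : MorphismProperty.HasOfPostcompProperty @IsOpenImmersion
      (@FormallyUnramified ⊓ @LocallyOfFiniteType : MorphismProperty Scheme.{u}) :=
    MorphismProperty.hasOfPostcompProperty_iff_le_diagonal.mpr fun _ _ g hg => by
      haveI : FormallyUnramified g := hg.1
      haveI : LocallyOfFiniteType g := hg.2
      exact inferInstanceAs (IsOpenImmersion (pullback.diagonal g))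
  exact hP.of_postcomp s h ⟨inferInstance, inferInstance⟩ inferInstance

theorem isLocalIsoAt_diagonal_of_unramified (f : X ⟶ Y) [LocallyOfFiniteType f] {x : X}
    {U : X.Opens} (hx : x ∈ U) [FormallyUnramified (U.ι ≫ f)] :
    SchLoc.IsLocalIsoAt (pullback.diagonal f) x := by
  refine ⟨U, hx, ?_⟩
  let m : pullback (U.ι ≫ f) (U.ι ≫ f) ⟶ pullback f f :=
    pullback.map _ _ f f U.ι U.ι (𝟙 _) (by simp) (by simp)
  have : U.ι ≫ pullback.diagonal f = pullback.diagonal (U.ι ≫ f) ≫ m := by
    apply pullback.hom_ext <;> simp [m]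
  rw [this]
  infer_instance

theorem exists_unramified_of_isLocalIsoAt_diagonal (f : X ⟶ Y) {x : X}
    (h : SchLoc.IsLocalIsoAt (pullback.diagonal f) x) :
    ∃ U : X.Opens, x ∈ U ∧ FormallyUnramified (U.ι ≫ f) := by
  obtain ⟨U, hx, hU⟩ := h
  refine ⟨U, hx, ?_⟩
  let m : pullback (U.ι ≫ f) (U.ι ≫ f) ⟶ pullback f f :=
    pullback.map _ _ f f U.ι U.ι (𝟙 _) (by simp) (by simp)
  have e : pullback.diagonal (U.ι ≫ f) ≫ m = U.ι ≫ pullback.diagonal f := by
    apply pullback.hom_ext <;> simp [m]
  haveI : IsOpenImmersion (pullback.diagonal (U.ι ≫ f) ≫ m) := by rw [e]; exact hU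
  haveI : IsOpenImmersion (pullback.diagonal (U.ι ≫ f)) := IsOpenImmersion.of_comp _ m
  infer_instance

end GrothLib.EtLocal
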