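import Groth.Agent.Lib.WeakEtale.Basic
import Groth.Agent.Lib.DiagGrp.KernelFP
import Mathlib.AlgebraicGeometry.Morphisms.FormallyUnramified
import Mathlib.AlgebraicGeometry.Morphisms.FlatMono

/-! # A morphism which is flat-locally a monomorphism is unramified (descent through the diagonal). -/

set_option autoImplicit false
set_option backward.isDefEq.respectTransparency false

universe u

open CategoryTheory Limits AlgebraicGeometry Topology

namespace GrothLib.EtLocal

variable {X Y : Scheme.{u}}

/-- The map between the self-products is a base change of `g`. -/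
lemma isPullback_map_snd_snd (f : X ⟶ Y) {Y' : Scheme.{u}} (g : Y' ⟶ Y) :
    IsPullback
      (pullback.map (pullback.snd f g) (pullback.snd f g) f f (pullback.fst f g) (pullback.fst f g) g
        pullback.condition.symm pullback.condition.symm)
      (pullback.fst (pullback.snd f g) (pullback.snd f g) ≫ pullback.snd f g)
      (pullback.fst f f ≫ f) g := by
  refine ⟨⟨?_⟩, ⟨PullbackCone.IsLimit.mk _ (fun s => pullback.lift
    (pullback.lift (s.fst ≫ pullback.fst f f) s.snd (by
      rw [Category.assoc]; exact s.condition))
    (pullback.lift (s.fst ≫ pullback.snd f f) s.snd (by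
      rw [Category.assoc, ← pullback.condition]; exact s.condition))
    (by simp)) (fun s => ?_) (fun s => ?_) (fun s m h1 h2 => ?_)⟩⟩
  · simp [pullback.condition]
  · apply pullback.hom_ext <;> simp
  · simp
  · have e1 := congrArg (fun t => t ≫ pullback.fst f f) h1
    have e2 := congrArg (fun t => t ≫ pullback.snd f f) h1
    simp only [Category.assoc, pullback.lift_fst, pullback.lift_snd] at e1 e2
    apply pullback.hom_ext <;> apply pullback.hom_ext
    · simpa using e1
    · simpa using h2
    · simpa using e2
    · rw [Category.assoc, ← pullback.condition]; simpa using h2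

/-- On an open mapping monomorphically to the flat neighbourhood, the diagonal is flat. -/
lemma flat_comp_diagonal (f : X ⟶ Y) {Y' : Scheme.{u}} (g : Y' ⟶ Y) [Flat g]
    (U : (pullback f g).Opens) [Mono (U.ι ≫ pullback.snd f g)] :
    Flat ((U.ι ≫ pullback.fst f g) ≫ pullback.diagonal f) := by
  let h := U.ι ≫ pullback.snd f g
  let j : pullback h h ⟶ pullback (pullback.snd f g) (pullback.snd f g) :=
    pullback.map h h _ _ U.ι U.ι (𝟙 _) (by simp [h]) (by simp [h])
  let m := pullback.map (pullback.snd f g) (pullback.snd f g) f f (pullback.fst f g) (pullback.fst f g) g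
    pullback.condition.symm pullback.condition.symm
  haveI : Flat m :=
    MorphismProperty.of_isPullback (P := @Flat) (isPullback_map_snd_snd f g).flip inferInstance
  haveI : IsIso (pullback.diagonal h) := (pullback.isIso_diagonal_iff h).mpr inferInstance
  have : (U.ι ≫ pullback.fst f g) ≫ pullback.diagonal f = pullback.diagonal h ≫ j ≫ m := by
    apply pullback.hom_ext <;> simp [j, m]
  rw [this]
  infer_instance

section

variable (f : X ⟶ Y) {ι : Type u} {Y' : ι → Scheme.{u}} (g : ∀ a, Y' a ⟶ Y) [∀ a, Flat (g a)]
  (U : ∀ a, (pullback f (g a)).Opens)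

/-- The total covering map. -/
noncomputable abbrev coverMap : (∐ fun a => (U a).toScheme) ⟶ X :=
  Sigma.desc fun a => (U a).ι ≫ pullback.fst f (g a)

instance : Flat (coverMap f g U) :=
  IsZariskiLocalAtSource.sigmaDesc fun _ => inferInstance

lemma surjective_coverMap
    (hcov : ∀ x : X, ∃ a, x ∈ (pullback.fst f (g a)).base '' (U a : Set ↥(pullback f (g a)))) :
    Surjective (coverMap f g U) := by
  constructor
  intro x
  obtain ⟨a, w, hw, rfl⟩ := hcov x
  exact ⟨Sigma.ι (fun a => (U a).toScheme) a ⟨w, hw⟩, by
    rw [← Scheme.Hom.comp_apply, Sigma.ι_desc]; rfl⟩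

theorem formallyUnramified_of_flat_locally_mono [LocallyOfFiniteType f]
    (hcov : ∀ x : X, ∃ a, x ∈ (pullback.fst f (g a)).base '' (U a : Set ↥(pullback f (g a))))
    (hmono : ∀ a, Mono ((U a).ι ≫ pullback.snd f (g a))) : FormallyUnramified f := by
  haveI := surjective_coverMap f g U hcov
  haveI : Flat (coverMap f g U ≫ pullback.diagonal f) := by
    have e : coverMap f g U ≫ pullback.diagonal f =
        Sigma.desc fun a => ((U a).ι ≫ pullback.fst f (g a)) ≫ pullback.diagonal f := by
      refine Sigma.hom_ext _ _ fun a => ?_
      rw [Sigma.ι_desc_assoc, Sigma.ι_desc]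
    rw [e]
    exact IsZariskiLocalAtSource.sigmaDesc fun a => by
      haveI := hmono a
      exact flat_comp_diagonal f (g a) (U a)
  haveI : Flat (pullback.diagonal f) :=
    GrothLib.WeakEtale.flat_of_comp_flat_surjective (coverMap f g U) _
  haveI : LocallyOfFinitePresentation (pullback.diagonal f) :=
    GrothLib.DiagGrp.lfp_of_comp_of_lft (pullback.diagonal f) (pullback.fst f f)
      (by rw [pullback.diagonal_fst]; infer_instance) inferInstance
  haveI : IsOpenImmersion (pullback.diagonal f) := IsOpenImmersion.of_flat_of_mono _
  infer_instance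

theorem flat_of_flat_locally
    (hcov : ∀ x : X, ∃ a, x ∈ (pullback.fst f (g a)).base '' (U a : Set ↥(pullback f (g a))))
    (hflat : ∀ a, Flat ((U a).ι ≫ pullback.snd f (g a))) : Flat f := by
  haveI := surjective_coverMap f g U hcov
  haveI : Flat (coverMap f g U ≫ f) := by
    have e : coverMap f g U ≫ f = Sigma.desc fun a => ((U a).ι ≫ pullback.snd f (g a)) ≫ g a := by
      refine Sigma.hom_ext _ _ fun a => ?_
      rw [Sigma.ι_desc_assoc, Sigma.ι_desc, Category.assoc, Category.assoc, pullback.condition]
    rw [e]
    exact IsZariskiLocalAtSource.sigmaDesc fun a => by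
      haveI := hflat a
      infer_instance
  exact GrothLib.WeakEtale.flat_of_comp_flat_surjective (coverMap f g U) f

end

end GrothLib.EtLocal
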