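import Groth.Agent.Lib.Weight.Radicial
import Groth.Agent.Lib.EtBasicB.ClosedNhd
import Groth.Agent.Lib.EtBasicB.OverField
import Mathlib.FieldTheory.PurelyInseparable.Basic
import Mathlib.AlgebraicGeometry.Morphisms.FormallyUnramified

/-! # Étale-local structure of a morphism near finitely many unramified (resp. étale) points:
finitely many opens mapping by closed immersions (resp. isomorphisms) to an étale neighbourhood. -/

set_option autoImplicit false
set_option backward.isDefEq.respectTransparency false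

universe u

open CategoryTheory Limits AlgebraicGeometry Topology

namespace GrothLib.EtLocal

variable {X S : Scheme.{u}}

/-- Finitely many opens of `X ×_S U`, closed in `U`, each with one point over `u`, exhausting the
points over `u` and the `x i`. -/
structure Parts (f : X ⟶ S) {U : Scheme.{u}} (g : U ⟶ S) (u : U) {ι : Type} (x : ι → X) where
  K : Type
  fin : Finite K
  lab : K → ι
  V : K → (pullback f g).Opens
  v : K → ↥(pullback f g)
  mem : ∀ k, v k ∈ V k
  closed : ∀ k, IsClosedImmersion ((V k).ι ≫ pullback.snd f g)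
  over : ∀ k, pullback.snd f g (v k) = u
  fst_v : ∀ k, pullback.fst f g (v k) = x (lab k)
  uniq : ∀ k, ∀ w ∈ V k, pullback.snd f g w = u → w = v k
  inj : Function.Injective v
  cover : ∀ (w : ↥(pullback f g)) (i : ι), pullback.snd f g w = u → pullback.fst f g w = x i →
    ∃ k, lab k = i ∧ w = v k

variable {f : X ⟶ S} {U : Scheme.{u}} {g : U ⟶ S} {u : U} {ι : Type} {x : ι → X}

/-- The comparison map for a smaller neighbourhood. -/
noncomputable def restrictMap (f : X ⟶ S) {U : Scheme.{u}} (g : U ⟶ S) (U' : U.Opens) :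
    pullback f (U'.ι ≫ g) ⟶ pullback f g :=
  pullback.lift (pullback.fst _ _) (pullback.snd _ _ ≫ U'.ι)
    (by rw [pullback.condition, Category.assoc])

@[reassoc (attr := simp)]
lemma restrictMap_fst (f : X ⟶ S) {U : Scheme.{u}} (g : U ⟶ S) (U' : U.Opens) :
    restrictMap f g U' ≫ pullback.fst f g = pullback.fst _ _ :=
  pullback.lift_fst _ _ _

@[reassoc (attr := simp)]
lemma restrictMap_snd (f : X ⟶ S) {U : Scheme.{u}} (g : U ⟶ S) (U' : U.Opens) :
    restrictMap f g U' ≫ pullback.snd f g = pullback.snd _ _ ≫ U'.ι :=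
  pullback.lift_snd _ _ _

lemma isPullback_restrictMap (f : X ⟶ S) {U : Scheme.{u}} (g : U ⟶ S) (U' : U.Opens) :
    IsPullback (restrictMap f g U') (pullback.snd f (U'.ι ≫ g)) (pullback.snd f g) U'.ι :=
  IsPullback.of_right (h₁₂ := pullback.fst f g) (h₂₂ := g) (v₁₃ := f)
    (by rw [restrictMap_fst]; exact IsPullback.of_hasPullback f (U'.ι ≫ g))
    (restrictMap_snd f g U') (IsPullback.of_hasPullback f g)

instance (f : X ⟶ S) {U : Scheme.{u}} (g : U ⟶ S) (U' : U.Opens) :
    IsOpenImmersion (restrictMap f g U') :=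
  MorphismProperty.of_isPullback (P := @IsOpenImmersion) (isPullback_restrictMap f g U').flip
    inferInstance

/-- A property stable under isomorphism holds for the restricted part if it holds for the
restriction over `U'`. -/
lemma restrict_part {P : MorphismProperty Scheme.{u}} [P.RespectsIso] (U' : U.Opens)
    (W : (pullback f g).Opens) (h : P ((W.ι ≫ pullback.snd f g) ∣_ U')) :
    P ((restrictMap f g U' ⁻¹ᵁ W).ι ≫ pullback.snd f (U'.ι ≫ g)) := by
  have h1 : IsPullback (restrictMap f g U' ∣_ W)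
      ((restrictMap f g U' ⁻¹ᵁ W).ι ≫ pullback.snd f (U'.ι ≫ g)) (W.ι ≫ pullback.snd f g) U'.ι :=
    (isPullback_morphismRestrict (restrictMap f g U') W).paste_vert (isPullback_restrictMap f g U')
  have h2 := (isPullback_morphismRestrict (W.ι ≫ pullback.snd f g) U').flip
  rw [← h1.isoIsPullback_hom_snd _ _ h2]
  exact (P.cancel_left_of_respectsIso _ _).mpr h

/-- Properties local on the target pass to smaller opens. -/
lemma of_le {P : MorphismProperty Scheme.{u}} [IsZariskiLocalAtTarget P] {A B : Scheme.{u}}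
    (h : A ⟶ B) {U₁ U₂ : B.Opens} (hle : U₁ ≤ U₂) (hU : P (h ∣_ U₂)) : P (h ∣_ U₁) := by
  have := (P.arrow_mk_iso_iff (morphismRestrictRestrict h U₂ (U₂.ι ⁻¹ᵁ U₁))).mp
    (IsZariskiLocalAtTarget.restrict hU (U₂.ι ⁻¹ᵁ U₁))
  refine (P.arrow_mk_iso_iff (morphismRestrictEq h ?_)).mp this
  ext z
  exact ⟨by rintro ⟨y, hy, rfl⟩; exact hy, fun hz ↦ ⟨⟨z, hle hz⟩, hz, rfl⟩⟩

/-- Shrink the neighbourhood. -/
noncomputable def Parts.shrink (P : Parts f g u x) (U' : U.Opens) (u' : U') (hu : u'.1 = u)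
    (hc : ∀ k, IsClosedImmersion (((P.V k).ι ≫ pullback.snd f g) ∣_ U') := by
      intros; exact inferInstance) :
    Parts f (U'.ι ≫ g) u' x := by
  have hex : ∀ k, ∃ w, restrictMap f g U' w = P.v k := fun k ↦ by
    obtain ⟨w, hw, -⟩ := Scheme.exists_preimage_of_isPullback (isPullback_restrictMap f g U')
      (P.v k) u' (by rw [P.over k]; exact hu.symm)
    exact ⟨w, hw⟩
  choose v hv using hex
  have key : ∀ w, U'.ι (pullback.snd f (U'.ι ≫ g) w) = pullback.snd f g (restrictMap f g U' w) :=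
    fun w ↦ by rw [← Scheme.Hom.comp_apply, ← Scheme.Hom.comp_apply, restrictMap_snd]
  have hfst : ∀ w, pullback.fst f (U'.ι ≫ g) w = pullback.fst f g (restrictMap f g U' w) :=
    fun w ↦ by rw [← Scheme.Hom.comp_apply, restrictMap_fst]
  refine
    { K := P.K, fin := P.fin, lab := P.lab, V := fun k ↦ restrictMap f g U' ⁻¹ᵁ P.V k, v := v,
      mem := ?_, closed := ?_, over := ?_, fst_v := ?_, uniq := ?_, inj := ?_, cover := ?_ }
  · intro k
    show restrictMap f g U' (v k) ∈ P.V k
    rw [hv]; exact P.mem k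
  · exact fun k ↦ restrict_part (P := @IsClosedImmersion) U' (P.V k) (hc k)
  · intro k
    apply U'.ι.isOpenEmbedding.injective
    rw [key, hv, P.over k]
    exact hu.symm
  · intro k
    rw [hfst, hv, P.fst_v k]
  · intro k w hw hwu
    apply (restrictMap f g U').isOpenEmbedding.injective
    rw [hv]
    exact P.uniq k _ hw (by rw [← key, hwu]; exact hu)
  · intro k k' h
    exact P.inj (by rw [← hv, ← hv, h])
  · intro w i hwu hwx
    obtain ⟨k, hk, hk'⟩ := P.cover (restrictMap f g U' w) i (by rw [← key, hwu]; exact hu)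
      (by rw [← hfst, hwx])
    exact ⟨k, hk, (restrictMap f g U').isOpenEmbedding.injective (by rw [hv, hk'])⟩

/-- Near `u`, a finite unramified part with radicial point over `u` is a closed immersion. -/
lemma exists_nhd_closed [LocallyOfFiniteType f] [FormallyUnramified f]
    (W : (pullback f g).Opens) (v : ↥(pullback f g)) (hv : v ∈ W)
    [IsFinite (W.ι ≫ pullback.snd f g)] (hvu : pullback.snd f g v = u)
    (huniq : ∀ w ∈ W, pullback.snd f g w = u → w = v)
    (hpi : letI := ((pullback.snd f g).residueFieldMap v).hom.toAlgebra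
      IsPurelyInseparable (U.residueField (pullback.snd f g v)) ((pullback f g).residueField v)) :
    ∃ U' : U.Opens, u ∈ U' ∧ IsClosedImmersion ((W.ι ≫ pullback.snd f g) ∣_ U') := by
  haveI hfu : FormallyUnramified (pullback.snd f g) :=
    MorphismProperty.pullback_snd _ _ inferInstance
  haveI : LocallyOfFiniteType (pullback.snd f g) :=
    MorphismProperty.pullback_snd _ _ inferInstance
  haveI : FormallyUnramified (W.ι ≫ pullback.snd f g) :=
    MorphismProperty.comp_mem _ _ _ inferInstance hfu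
  refine GrothLib.EtBasicB.exists_nhd_isClosedImmersion _ u ⟨v, hv⟩ ?_ ?_
  · ext w
    refine ⟨fun h ↦ Subtype.ext (huniq w.1 w.2 h), ?_⟩
    rintro rfl
    exact hvu
  · have hs : Function.Surjective ((pullback.snd f g).residueFieldMap v) := by
      letI := ((pullback.snd f g).residueFieldMap v).hom.toAlgebra
      haveI := hpi
      exact IsPurelyInseparable.surjective_algebraMap_of_isSeparable
        (U.residueField (pullback.snd f g v)) ((pullback f g).residueField v)
    rw [Scheme.residueFieldMap_comp]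
    intro z
    obtain ⟨y, rfl⟩ := (ConcreteCategory.bijective_of_isIso (W.ι.residueFieldMap ⟨v, hv⟩)).2 z
    obtain ⟨t, rfl⟩ := hs y
    exact ⟨t, rfl⟩

theorem exists_parts_of_formallyUnramified (f : X ⟶ S) [LocallyOfFiniteType f]
    [FormallyUnramified f] (s : S) {ι : Type} [Finite ι] (x : ι → X)
    (hinj : Function.Injective x) (hs : ∀ i, f (x i) = s) :
    ∃ (U : Scheme.{u}) (g : U ⟶ S) (u : U), Etale g ∧ g u = s ∧ Nonempty (Parts f g u x) := by
  haveI : LocallyQuasiFinite f := GrothLib.EtBasicB.locallyQuasiFinite_of_unramified f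
  obtain ⟨U, g, u, hg, hgu, J, hJ, V, v, hV, hvinj, hcov⟩ :=
    GrothLib.Weight.exists_radicial_parts f s x hinj hs (fun i ↦ f.quasiFiniteAt (x i))
  haveI := hg
  haveI := hJ
  have hn : ∀ k : Σ i, J i, ∃ U' : U.Opens, u ∈ U' ∧
      IsClosedImmersion (((V k.1 k.2).ι ≫ pullback.snd f g) ∣_ U') := fun k ↦ by
    obtain ⟨hv, hfin, hvu, huniq, ⟨-, hpi⟩, -⟩ := hV k.1 k.2
    haveI := hfin
    exact exists_nhd_closed (V k.1 k.2) (v k.1 k.2) hv hvu huniq hpi
  choose U' hu' hc using hn
  let U₁ : U.Opens := ⟨⋂ k, (U' k : Set U), isOpen_iInter_of_finite fun k ↦ (U' k).2⟩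
  have hu₁ : u ∈ U₁ := Set.mem_iInter.mpr hu'
  -- points
  have hex : ∀ k : Σ i, J i, ∃ w, restrictMap f g U₁ w = v k.1 k.2 := fun k ↦ by
    obtain ⟨w, hw, -⟩ := Scheme.exists_preimage_of_isPullback (isPullback_restrictMap f g U₁)
      (v k.1 k.2) ⟨u, hu₁⟩ ((hV k.1 k.2).2.2.1)
    exact ⟨w, hw⟩
  choose w hw using hex
  have key : ∀ z, U₁.ι (pullback.snd f (U₁.ι ≫ g) z) = pullback.snd f g (restrictMap f g U₁ z) :=
    fun z ↦ by rw [← Scheme.Hom.comp_apply, ← Scheme.Hom.comp_apply, restrictMap_snd]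
  have hfst : ∀ z, pullback.fst f (U₁.ι ≫ g) z = pullback.fst f g (restrictMap f g U₁ z) :=
    fun z ↦ by rw [← Scheme.Hom.comp_apply, restrictMap_fst]
  refine ⟨U₁, U₁.ι ≫ g, ⟨u, hu₁⟩, inferInstance, ?_,
    ⟨{ K := Σ i, J i, fin := inferInstance, lab := Sigma.fst,
       V := fun k ↦ restrictMap f g U₁ ⁻¹ᵁ V k.1 k.2, v := w,
       mem := ?_, closed := ?_, over := ?_, fst_v := ?_, uniq := ?_, inj := ?_, cover := ?_ }⟩⟩
  · rw [Scheme.Hom.comp_apply]; exact hgu
  · intro k
    show restrictMap f g U₁ (w k) ∈ V k.1 k.2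
    rw [hw]; exact (hV k.1 k.2).1
  · intro k
    have h2 : IsClosedImmersion (((V k.1 k.2).ι ≫ pullback.snd f g) ∣_ U₁) :=
      of_le _ (fun z hz ↦ Set.mem_iInter.mp hz k) (hc k)
    exact restrict_part (P := @IsClosedImmersion) U₁ _ h2
  · intro k
    apply U₁.ι.isOpenEmbedding.injective
    rw [key, hw, (hV k.1 k.2).2.2.1]
    rfl
  · intro k
    rw [hfst, hw]
    exact (hV k.1 k.2).2.2.2.2.2
  · intro k z hz hzu
    apply (restrictMap f g U₁).isOpenEmbedding.injective
    rw [hw]
    exact (hV k.1 k.2).2.2.2.1 _ hz (by rw [← key, hzu]; rfl)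
  · rintro ⟨i, j⟩ ⟨i', j'⟩ h
    obtain ⟨rfl, hj⟩ := hvinj i j i' j' (by rw [← hw ⟨i, j⟩, ← hw ⟨i', j'⟩, h])
    exact Sigma.ext rfl hj
  · intro z i hzu hzx
    obtain ⟨j, hj⟩ := hcov (restrictMap f g U₁ z) i (by rw [← key, hzu]; rfl) (by rw [← hfst, hzx])
    exact ⟨⟨i, j⟩, rfl, (restrictMap f g U₁).isOpenEmbedding.injective (by rw [hw, hj])⟩

end GrothLib.EtLocal
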